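import Cfsg.Agent.H21.SN.Tools
import Cfsg.Agent.H839.Rad.Base
import Cfsg.Agent.SmallSimple.S1000.PSLFacts

/-!
# S3831, sporadic rows: tools for inner automorphisms (helper473)

The `RN` versions of the tools of `H839.Rad.Base`:
* `noS3_card` : `5616`, `6048`, `25920` do not divide `|H|`; `noS3_lt` : `|H| < 5616`;
* `mem_rad` : `x ∈ M`, `NoS3 M`: `x` lies in the radical of `M`; `false_of_mem`, `false_of_comm`, `mem_zpowers_of_large`;
* `rn_conj`; `g3_of_inn` : inner automorphisms suffice.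
-/

set_option autoImplicit false
set_option linter.unusedSectionVars false

namespace Cfsg.Agent.H473.SN

open Cfsg Subgroup Cfsg.Agent.SignalizersComponents.ComponentExists Cfsg.Agent.H459.Rad
open Cfsg.Agent.H21.SN
open Cfsg.Agent.H959.Rad3 (Inv inv_of_ps)
open Cfsg.Agent.H839.Rad (RadFree ps_conj conj_injective)

/-! ### orders -/

theorem noS3_card {H : Type*} [Group H] [Finite H] (h1 : ¬ 5616 ∣ Nat.card H) (h2 : ¬ 6048 ∣ Nat.card H)
    (h3 : ¬ 25920 ∣ Nat.card H) : NoS3 H := by
  rintro M L _ f hf ⟨-, -, h⟩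
  have h0 : Nat.card L ∣ Nat.card H :=
    (Subgroup.card_dvd_of_surjective f hf).trans (Subgroup.card_subgroup_dvd_card M)
  rcases h with ⟨F, _, _, hF, ⟨e⟩⟩ | ⟨F, _, _, hF, ⟨e⟩⟩ | ⟨F, _, _, hF, ⟨e⟩⟩
  · rw [Nat.card_congr e.toEquiv, SmallSimple.PSLFacts.card_psl_three_three hF] at h0
    exact h1 h0
  · rw [Nat.card_congr e.toEquiv, SmallSimple.PSLFacts.card_psu_three_three hF] at h0
    exact h2 h0
  · rw [Nat.card_congr e.toEquiv, SmallSimple.PSLFacts.card_psp_two_three hF] at h0
    exact h3 h0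

theorem noS3_lt {H : Type*} [Group H] [Finite H] (h : Nat.card H < 5616) : NoS3 H := by
  have h0 : 0 < Nat.card H := Nat.card_pos
  refine noS3_card ?_ ?_ ?_ <;>
  · intro h1
    have := Nat.le_of_dvd h0 h1
    omega

section Base

variable {p : ℕ} {K : Type*} [Group K] [Finite K]

/-- **a radical element lies in the radical of every subgroup without sections containing it** -/
theorem mem_rad {x : K} (h : RN (MulAut.conj x)) {M : Subgroup K} (hM : NoS3 M) (hx : x ∈ M) :
    (⟨x, hx⟩ : M) ∈ solvableRadical M := by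
  refine mem_rad_of_commutator fun g => ?_
  have hm : ∀ m ∈ M, MulAut.conj x m ∈ M := fun m hm => M.mul_mem (M.mul_mem hx hm) (M.inv_mem hx)
  exact mem_radIn_coe.1 (h M hm hM g g.2)

theorem false_of_mem {x : K} (ho : orderOf x = p) (h : RN (MulAut.conj x)) {M : Subgroup K} (hM : NoS3 M)
    (hx : x ∈ M) (hR : RadFree p M) : False :=
  hR ⟨x, hx⟩ (by rw [Subgroup.orderOf_mk, ho]) (mem_rad h hM hx)

theorem rn_conj {x : K} (h : RN (MulAut.conj x)) (g : K) : RN (MulAut.conj (g * x * g⁻¹)) := by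
  have h1 := RN.tr (MulAut.conj g) h
  have h2 : tr (MulAut.conj g) (MulAut.conj x) = MulAut.conj (g * x * g⁻¹) := by
    ext k
    rw [tr_apply, MulAut.conj_apply, MulAut.conj_apply, MulAut.conj_apply, MulAut.conj_symm_apply]
    group
  rwa [h2] at h1

/-- commuting with `t` -/
theorem false_of_comm {x t : K} (ho : orderOf x = p) (h : RN (MulAut.conj x))
    (hN : NoS3 ↥(centralizer ({t} : Set K))) (hxt : x * t = t * x)
    (hR : RadFree p ↥(centralizer ({t} : Set K))) : False :=
  false_of_mem ho h hN (mem_centralizer_singleton_iff.2 hxt) hR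

/-- commuting with an element `y` whose centralizer has no `p`-elements in its radical outside of `⟨y⟩` -/
theorem mem_zpowers_of_large {x y : K} (ho : orderOf x = p) (h : RN (MulAut.conj x))
    (hN : NoS3 ↥(centralizer ({y} : Set K))) (hxy : x * y = y * x)
    (hR : ∀ u : ↥(centralizer ({y} : Set K)), orderOf u = p → u ∈ solvableRadical ↥(centralizer ({y} : Set K)) →
      (u : K) ∈ zpowers y) : x ∈ zpowers y := by
  have hx : x ∈ centralizer ({y} : Set K) := mem_centralizer_singleton_iff.2 hxy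
  exact hR ⟨x, hx⟩ (by rw [Subgroup.orderOf_mk, ho]) (mem_rad h hN hx)

/-- **inner automorphisms suffice** -/
theorem g3_of_inn (hZ : center K = ⊥) (hin : ∀ x : MulAut K, orderOf x = 3 → ∃ a : K, x = MulAut.conj a)
    (h : ∀ a : K, orderOf a = 3 → PS 2 (MulAut.conj a) → RN (MulAut.conj a) → False) : G3 K := by
  intro x hx hP hR
  obtain ⟨a, rfl⟩ := hin x hx
  rw [orderOf_injective _ (conj_injective hZ)] at hx
  exact h a hx hP hR

/-- a subgroup of index prime to `p` contains a conjugate -/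
theorem exists_conj_mem (hp : p.Prime) {x : K} (ho : orderOf x = p) {M : Subgroup K} (hi : ¬ p ∣ M.index) :
    ∃ g : K, g * x * g⁻¹ ∈ M := by
  have : Fact p.Prime := ⟨hp⟩
  obtain ⟨S⟩ : Nonempty (Sylow p M) := inferInstance
  have hS : IsPGroup p ↥((S : Subgroup M).map M.subtype) := S.isPGroup'.map _
  have hc : ¬ p ∣ ((S : Subgroup M).map M.subtype).index := by
    rw [← relIndex_mul_index (map_subtype_le (S : Subgroup M)), hp.dvd_mul, not_or]
    refine ⟨?_, hi⟩
    have h1 : ((S : Subgroup M).map M.subtype).relIndex M = (S : Subgroup M).index := by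
      rw [relIndex, subgroupOf, comap_map_eq_self_of_injective M.subtype_injective]
    rw [h1]
    exact S.not_dvd_index
  let P : Sylow p K := hS.toSylow hc
  have hx : IsPGroup p ↥(zpowers x) := IsPGroup.of_card (n := 1) (by rw [Nat.card_zpowers, ho, pow_one])
  obtain ⟨P', hP'⟩ := hx.exists_le_sylow
  obtain ⟨g, hg⟩ := MulAction.exists_smul_eq K P' P
  refine ⟨g, ?_⟩
  have h1 : g * x * g⁻¹ ∈ (P : Subgroup K) := by
    rw [← hg, Sylow.coe_subgroup_smul]
    exact smul_mem_pointwise_smul x (MulAut.conj g) _ (hP' (mem_zpowers x))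
  exact map_subtype_le (S : Subgroup M) h1

/-- an inner automorphism of a section: `x ∈ M`, `f : M → L` onto with solvable kernel prime to the order of `x` -/
theorem false_of_section {x : K} (ho : orderOf x = 3) (hP : PS 2 (MulAut.conj x)) (hR : RN (MulAut.conj x))
    {M : Subgroup K} (hx : x ∈ M) {L : Type*} [Group L] [Finite L] (f : M →* L) (hf : Function.Surjective f)
    (hk : Group.IsSolvable f.ker) (hfx : f ⟨x, hx⟩ ≠ 1) (hZ : center L = ⊥) (hL : G3 L) : False := by
  have hm : ∀ m ∈ M, MulAut.conj x m ∈ M := fun m hm => M.mul_mem (M.mul_mem hx hm) (M.inv_mem hx)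
  have hy : ∀ m : M, f ⟨MulAut.conj x m, hm m m.2⟩ = MulAut.conj (f ⟨x, hx⟩) (f m) := by
    intro m
    change f (⟨x, hx⟩ * m * ⟨x, hx⟩⁻¹) = f ⟨x, hx⟩ * f m * (f ⟨x, hx⟩)⁻¹
    rw [map_mul, map_mul, map_inv]
  have h3 : orderOf (f ⟨x, hx⟩) = 3 := by
    have h1 : orderOf (f ⟨x, hx⟩) ∣ 3 := by
      have h2 := orderOf_map_dvd f ⟨x, hx⟩
      rwa [Subgroup.orderOf_mk, ho] at h2
    rcases (Nat.dvd_prime Nat.prime_three).1 h1 with h2 | h2
    · exact absurd (orderOf_eq_one_iff.1 h2) hfx
    · exact h2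
  exact hL (MulAut.conj (f ⟨x, hx⟩)) (by rw [orderOf_injective _ (conj_injective hZ), h3]) (PS.sec hP hm f hf _ hy)
    (RN.sec hR hm f hf hk _ hy)

end Base

end Cfsg.Agent.H473.SN
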