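import Cfsg.Agent.H473.SN.Base
import Cfsg.Agent.H740.Wf.SuzRow
import Cfsg.Agent.NotCT.Orders
import Cfsg.Agent.FooteOdd.SporMEleven

/-!
# S3831, the row `G3` of `Suz` (helper473)

`NA = N(A₀) = 3⁵ : M₁₁` has index prime to three and no sections `L₃(3)`, `U₃(3)`, `PSp₄(3)`, so that the elements in
question of `NA` lie in `A₀`. The elements `x₀ x₁^{±1}` are conjugate to elements of `NA ∖ A₀`; the special element `x₀`
generates a nonsolvable group with some involution.
-/

set_option autoImplicit false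
set_option linter.unusedSectionVars false
set_option maxRecDepth 100000

namespace Cfsg.Agent.H473.SN.Suz

open Subgroup Cfsg Cfsg.Spor Cfsg.Agent.H459.Rad Cfsg.Agent.H21.SN Cfsg.Agent.H473.SN
open Cfsg.Agent.H959.Rad3 (Inv inv_of_ps not_solvable_of_coprime)
open Cfsg.Agent.SignalizersComponents.ComponentExists
open Cfsg.Agent.H740.Wf.SuzElts Cfsg.Agent.H740.Wf.SuzRow
  Cfsg.Agent.SporadicRecognition.SuzOrder Cfsg.Agent.SporadicRecognition.SuzPhi
  Cfsg.Agent.SuzThree.Basic Cfsg.Agent.SuzThree.Elts Cfsg.Agent.SuzThree.Elementary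
  Cfsg.Agent.SuzThree.NormElts Cfsg.Agent.SuzThree.NormAct

theorem finite_Suz : Finite Suz := Nat.finite_of_card_ne_zero (by rw [card_Suz]; norm_num)

/-! ### the normalizer -/

theorem card_quot : Nat.card (NA ⧸ A0.subgroupOf NA) = 7920 := NotCT.Orders.m11 isoM11

theorem isSolvable_A0 : Group.IsSolvable ↥(A0.subgroupOf NA) :=
  Group.isSolvable_of_comm fun a b =>
    Subtype.ext (Subtype.ext (comm_A0 (mem_subgroupOf.1 a.2) (mem_subgroupOf.1 b.2)))

theorem noS3_NA : NoS3 NA := by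
  have hfin := finite_Suz
  refine NoS3.of_ker (QuotientGroup.mk' (A0.subgroupOf NA)) ?_ (noS3_card ?_ ?_ ?_)
  · rw [QuotientGroup.ker_mk']
    exact isSolvable_A0
  all_goals
    rw [card_quot]
    norm_num

theorem rad_quot : solvableRadical (NA ⧸ A0.subgroupOf NA) = ⊥ := by
  have hfin := finite_Suz
  have hs : IsSimpleGroup (NA ⧸ A0.subgroupOf NA) := by
    obtain ⟨e⟩ := isoM11
    have h1 : IsSimpleGroup ↥Spor.M11 := Cfsg.Agent.FooteOdd.SporMEleven.simple
    exact e.isSimpleGroup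
  refine rad_eq_bot_of_simple ?_
  intro hsol
  let _ : CommGroup (NA ⧸ A0.subgroupOf NA) := { (inferInstance : Group (NA ⧸ A0.subgroupOf NA)) with
    mul_comm := IsSimpleGroup.comm_iff_isSolvable.2 hsol }
  have h2 : (Nat.card (NA ⧸ A0.subgroupOf NA)).Prime := IsSimpleGroup.prime_card
  rw [card_quot] at h2
  revert h2
  norm_num

theorem mem_A0_of {y : Suz} (hR : RN (MulAut.conj y)) (hy : y ∈ NA) : y ∈ A0 := by
  have hfin := finite_Suz
  have h1 := map_rad_le (QuotientGroup.mk'_surjective (A0.subgroupOf NA)) (mem_rad hR noS3_NA hy)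
  rw [rad_quot, mem_bot] at h1
  exact mem_subgroupOf.1 ((QuotientGroup.eq_one_iff _).1 h1)

/-! ### the special element -/

/-- the conjugating word -/
def pre : List Suz.Gen := [.e, .d, .c, .b, .d, .c]

/-- the involution -/
def tw : List Suz.Gen := pre ++ [.b, .d] ++ pre.reverse

theorem tw_sq : el tw * el tw = 1 := by
  rw [← el_append]
  exact eq_one_of_t5 (Rep.el _) (by decide +kernel)

theorem five : (el w0 * el tw) ^ 5 = 1 := by
  have h : (el w0 * el tw) ^ 5 = el (w0 ++ tw ++ (w0 ++ tw) ++ (w0 ++ tw) ++ (w0 ++ tw) ++ (w0 ++ tw)) := by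
    simp only [el_append, pow_succ, pow_zero, one_mul]
  rw [h]
  exact eq_one_of_t5 (Rep.el _) (by decide +kernel)

theorem x0_eq : x .i0 = el w0 := by
  unfold x
  simp [uw]

theorem x0_ne : x .i0 ≠ 1 := by
  intro h
  have h1 := z1_not
  apply h1
  -- the action of `z1` is not trivial, so `x₀ ≠ 1`
  exact absurd h (by
    intro h2
    exact u_comm0 (by rw [h2, mul_one, one_mul]))

theorem not_solvable_x0 : ¬ Group.IsSolvable ↥(closure ({x .i0, el tw} : Set Suz)) := by
  have h5 : (x .i0 * el tw) ^ 5 = 1 := by rw [x0_eq]; exact five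
  refine not_solvable_of_coprime (k := 1) (n := 5) p0 (by rw [pow_one, pow_two]; exact tw_sq) h5 (by norm_num) ?_
  intro h
  have h1 : x .i0 = (el tw)⁻¹ := eq_inv_of_mul_eq_one_left h
  have h2 : x .i0 * x .i0 = 1 := by rw [h1, ← mul_inv_rev, tw_sq, inv_one]
  have h3 : x .i0 ^ 3 = 1 := p0
  rw [pow_succ, pow_two, h2, one_mul] at h3
  exact x0_ne h3

theorem not_solvable_x0_inv : ¬ Group.IsSolvable ↥(closure ({(x .i0)⁻¹, el tw} : Set Suz)) := by
  intro h
  refine not_solvable_x0 (isSolvable_of_le ?_ h)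
  rw [closure_le]
  rintro y (rfl | hy)
  · exact inv_mem_iff.1 (subset_closure (by simp))
  · rw [Set.mem_singleton_iff] at hy
    rw [hy]
    exact subset_closure (by simp)

/-! ### the row -/

/-- a set closed under conjugation with `C ∩ NA ⊆ A₀` contains `x₀` or its inverse -/
theorem special {C : Suz → Prop} (hc0 : ∀ (g y : Suz), C y → C (g * y * g⁻¹)) (hC : ∀ c, C c → c ∈ NA → c ∈ A0)
    {c : Suz} (hc : C c) (hcA : c ∈ A0) (hc1 : c ≠ 1) : C (x .i0) ∨ C (x .i0)⁻¹ := by
  obtain ⟨v, hv⟩ := mem_A0.1 hcA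
  rw [← hv] at hc
  have hv0 : v ≠ 0 := by
    rintro rfl
    exact hc1 (by rw [← hv, E_zero])
  have hinv : ∀ g y : Suz, g * y⁻¹ * g⁻¹ = (g * y * g⁻¹)⁻¹ := fun g y => by group
  -- the four elements
  have b1 : ¬ C (E (vec .i0 + vec .i1)) := by
    intro hm
    rw [E_add, ← x_eq, ← x_eq] at hm
    exact z1_not (hC _ (hc0 (el w1) _ hm) z1_mem)
  have b2 : ¬ C (E (-(vec .i0 + vec .i1))) := by
    intro hm
    rw [E_neg, E_add, ← x_eq, ← x_eq] at hm
    have h1 := hc0 (el w1) _ hm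
    rw [hinv] at h1
    have h2 := hC _ h1 (NA.inv_mem z1_mem)
    exact z1_not (A0.inv_mem_iff.1 h2)
  have b3 : ¬ C (E (vec .i0 + (vec .i1 + vec .i1))) := by
    intro hm
    rw [E_add, E_add, ← x_eq, ← x_eq] at hm
    exact z2_not (hC _ (hc0 (el w2) _ hm) z2_mem)
  have b4 : ¬ C (E (-(vec .i0 + (vec .i1 + vec .i1)))) := by
    intro hm
    rw [E_neg, E_add, E_add, ← x_eq, ← x_eq] at hm
    have h1 := hc0 (el w2) _ hm
    rw [hinv] at h1
    have h2 := hC _ h1 (NA.inv_mem z2_mem)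
    exact z2_not (A0.inv_mem_iff.1 h2)
  rcases vec_cases v hv0 with ⟨f, hf⟩ | ⟨f, g, hfg, hf⟩
  · have key : ∀ a : Ix, ∃ b e f : Ix, [a, b, e, f].Nodup := by decide +kernel
    obtain ⟨b, e, e', h1⟩ := key f
    obtain ⟨n, n0, -⟩ := exists_npr f b e e' h1
    obtain ⟨L, hL⟩ := exists_L n⁻¹
    have h2 := isSp_of hL f
    rw [show n⁻¹ • f = Ix.i0 by rw [inv_smul_eq_iff, n0]] at h2
    have h3 : C (E (L v)) := by rw [hL]; exact hc0 _ _ hc
    have h4 : L v = vec .i0 ∨ L v = -vec .i0 := by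
      rcases hf with rfl | rfl
      · exact h2
      · rw [map_neg, neg_inj, neg_eq_iff_eq_neg]; exact h2.symm
    rcases h4 with h4 | h4
    · left; rw [x_eq, ← h4]; exact h3
    · right; rw [x_eq, ← E_neg, ← h4]; exact h3
  · exfalso
    have key : ∀ a b : Ix, a ≠ b → ∃ e f : Ix, [a, b, e, f].Nodup := by decide +kernel
    obtain ⟨e, e', h1⟩ := key f g hfg
    obtain ⟨n, n0, n1, -⟩ := exists_npr f g e e' h1
    obtain ⟨L, hL⟩ := exists_L n⁻¹
    have h2 := isSp_of hL f
    have h2' := isSp_of hL g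
    rw [show n⁻¹ • f = Ix.i0 by rw [inv_smul_eq_iff, n0]] at h2
    rw [show n⁻¹ • g = Ix.i1 by rw [inv_smul_eq_iff, n1]] at h2'
    have h3 : C (E (L v)) := by rw [hL]; exact hc0 _ _ hc
    have h4 : L v = vec .i0 + vec .i1 ∨ L v = -(vec .i0 + vec .i1) ∨
        L v = vec .i0 + (vec .i1 + vec .i1) ∨ L v = -(vec .i0 + (vec .i1 + vec .i1)) := by
      rcases hf with rfl | rfl | rfl | rfl <;> simp only [map_neg, map_add] <;>
        rcases h2 with h2 | h2 <;> rcases h2' with h2' | h2' <;> rw [h2, h2'] <;> decide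
    rcases h4 with h4 | h4 | h4 | h4 <;> rw [h4] at h3
    · exact b1 h3
    · exact b2 h3
    · exact b3 h3
    · exact b4 h3

theorem center_Suz : center Suz = ⊥ := by
  have hs : IsSimpleGroup Suz := Cfsg.Agent.SporadicRecognition.SuzOrder.simple
  rcases (inferInstance : (center Suz).Normal).eq_bot_or_eq_top with h | h
  · exact h
  · exfalso
    exact u_comm0 ((mem_center_iff.1 (h ▸ mem_top (x .i0)) (el wu)))

theorem inner_Suz (a : MulAut Suz) (ha : orderOf a = 3) : ∃ b : Suz, a = MulAut.conj b := by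
  have h3 : a ^ 3 = 1 := by rw [← ha, pow_orderOf_eq_one]
  have hm : a ∈ (MulAut.conj : Suz →* MulAut Suz).range := by
    rcases Cfsg.Agent.KFacts.SuzOut.index_eq with h | h
    · rw [Subgroup.index_eq_one.1 h]; trivial
    · have hn := Subgroup.normal_of_index_eq_two h
      have h2 := Subgroup.pow_index_mem (MulAut.conj : Suz →* MulAut Suz).range a
      rw [h] at h2
      have h4 : a = (a ^ 2)⁻¹ := by
        rw [eq_inv_iff_mul_eq_one, ← pow_succ']; exact h3
      rw [h4]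
      exact Subgroup.inv_mem _ h2
  obtain ⟨b, hb⟩ := hm
  exact ⟨b, hb.symm⟩

theorem g3_Suz : G3 Suz := by
  have hfin := finite_Suz
  refine g3_of_inn center_Suz inner_Suz fun a ha hP hR => ?_
  obtain ⟨g, hg⟩ := exists_conj_mem Nat.prime_three ha index_NA
  let C : Suz → Prop := fun y => RN (MulAut.conj y) ∧ Inv (MulAut.conj y)
  have hA := mem_A0_of (rn_conj hR g) hg
  have hne : g * a * g⁻¹ ≠ 1 := by
    intro h
    rw [conj_eq_one_iff] at h
    rw [h, orderOf_one] at ha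
    norm_num at ha
  have h0 : C (g * a * g⁻¹) := ⟨rn_conj hR g, (inv_of_ps le_rfl hP).conj g⟩
  have := special (C := C) (fun g y hy => ⟨rn_conj hy.1 g, hy.2.conj g⟩) (fun c hc hN => mem_A0_of hc.1 hN) h0 hA hne
  rcases this with h1 | h1
  · exact not_solvable_x0 (h1.2.solvable center_Suz tw_sq)
  · exact not_solvable_x0_inv (h1.2.solvable center_Suz tw_sq)

theorem g3_suz {K : Type*} [Group K] [Finite K] (h : Spor.IsoSuz K) : G3 K := by
  obtain ⟨e⟩ := h
  have hfin := finite_Suz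
  exact G3.congr e g3_Suz

end Cfsg.Agent.H473.SN.Suz
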