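import Cfsg.Agent.H473.SN.Base
import Cfsg.Agent.H51.Rad3.J4
import Cfsg.Agent.H588.SN.Mat

/-!
# S3831, the row `G3` of `J₄` (helper473)

`M₂₄` is a subgroup of index prime to three.
-/

set_option autoImplicit false
set_option linter.unusedSectionVars false

namespace Cfsg.Agent.H473.SN.J4

open Subgroup Cfsg Cfsg.Agent.H459.Rad Cfsg.Agent.H21.SN Cfsg.Agent.H473.SN
open Cfsg.Agent.H49.JFourThree Cfsg.Agent.J4.Pres

theorem finite_J4 : Finite Cfsg.Spor.J4 :=
  Nat.finite_of_card_ne_zero (by rw [Cfsg.Agent.J4.Final.card_J4]; norm_num)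

/-- from `G3 M24` -/
theorem g3_j4_of (h24 : G3 ↥Cfsg.M24) {K : Type*} [Group K] [Finite K] [IsSimpleGroup K] (h : Cfsg.Spor.IsoJ4 K) :
    G3 K := by
  obtain ⟨e⟩ := h
  have hfin := finite_J4
  refine G3.congr e ?_
  have hnt : Nontrivial Cfsg.Spor.J4 := e.symm.toEquiv.nontrivial
  have hs : IsSimpleGroup Cfsg.Spor.J4 := IsSimpleGroup.isSimpleGroup_of_surjective e.toMonoidHom e.surjective
  have hcJ := Cfsg.Agent.J4.Final.card_J4
  have hZ : center Cfsg.Spor.J4 = ⊥ := by
    rcases (inferInstance : (center Cfsg.Spor.J4).Normal).eq_bot_or_eq_top with h1 | h1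
    · exact h1
    · exfalso
      let _ : CommGroup Cfsg.Spor.J4 := { (inferInstance : Group Cfsg.Spor.J4) with
        mul_comm := fun a b => (mem_center_iff.1 (h1 ▸ mem_top a : a ∈ center Cfsg.Spor.J4) b).symm }
      have h2 : (Nat.card Cfsg.Spor.J4).Prime := IsSimpleGroup.prime_card (α := Cfsg.Spor.J4)
      rw [hcJ] at h2
      revert h2
      norm_num
  refine g3_of_inn hZ (fun x hx => H51.Rad3.inner_of_card (by rw [Cfsg.Agent.S2068.result]; norm_num) x hx)
    fun a ha hP hR => ?_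
  have hc := phi.range.card_mul_index
  rw [Cfsg.Agent.H49.JFourThree.card_range, Cfsg.Agent.J4.Final.card_J4] at hc
  obtain ⟨g, hg⟩ := exists_conj_mem Nat.prime_three ha (M := phi.range) (by
    rintro ⟨k, hk⟩
    rw [hk] at hc
    omega)
  have ho : orderOf (g * a * g⁻¹) = 3 := by rw [← MulAut.conj_apply, MulEquiv.orderOf_eq, ha]
  have hs24 : IsSimpleGroup M24 := Cfsg.Agent.S0365.result
  have hf24 : Finite M24 := Nat.finite_of_card_ne_zero (by rw [Cfsg.Agent.S2038.card_M24]; norm_num)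
  let f : ↥(phi.range) ≃* M24 := (MonoidHom.ofInjective phi_injective).symm
  refine false_of_section ho (H839.Rad.ps_conj hP g) (rn_conj hR g) hg f.toMonoidHom f.surjective ?_ ?_ ?_ h24
  · have h1 : f.toMonoidHom.ker = ⊥ := (MonoidHom.ker_eq_bot_iff _).2 f.injective
    rw [h1]
    exact Group.isSolvable_of_comm fun a b => Subsingleton.elim _ _
  · intro h1
    have h2 : (⟨g * a * g⁻¹, hg⟩ : ↥(phi.range)) = 1 := f.injective (h1.trans (map_one f).symm)
    have h3 : g * a * g⁻¹ = 1 := congrArg Subtype.val h2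
    rw [h3, orderOf_one] at ho
    norm_num at ho
  · rcases (inferInstance : (center ↥M24).Normal).eq_bot_or_eq_top with h1 | h1
    · exact h1
    · exfalso
      let _ : CommGroup ↥M24 := { (inferInstance : Group ↥M24) with
        mul_comm := fun a b => (mem_center_iff.1 (h1 ▸ mem_top a : a ∈ center ↥M24) b).symm }
      have h2 : (Nat.card ↥M24).Prime := IsSimpleGroup.prime_card (α := ↥M24)
      rw [Cfsg.Agent.S2038.card_M24] at h2
      revert h2
      norm_num

theorem g3_j4 {K : Type*} [Group K] [Finite K] [IsSimpleGroup K] (h : Cfsg.Spor.IsoJ4 K) : G3 K := by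
  have hs24 : IsSimpleGroup M24 := Cfsg.Agent.S0365.result
  have hf24 : Finite M24 := Nat.finite_of_card_ne_zero (by rw [Cfsg.Agent.S2038.card_M24]; norm_num)
  exact g3_j4_of (Cfsg.Agent.H588.SN.g3_m24 ⟨MulEquiv.refl _⟩) h

end Cfsg.Agent.H473.SN.J4
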