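import Cfsg.Agent.H473.SN.Base
import Cfsg.Agent.H462.Rad3.Janko

/-!
# S3831, the rows `G3` of `J₁`, `J₂`, `J₃` (helper473)

* `g3_j1` : by the order;
* `g3_j2` : an element of order three commutes with an involution, whose centralizer is `2^{1+4}.A₅` or `2² × A₅`;
* `g3_j3` : as `H462.Rad3.Janko.irow_j3`, the centralizers have orders `1920` and `1080`.
-/

set_option autoImplicit false
set_option linter.unusedSectionVars false
set_option maxRecDepth 100000

namespace Cfsg.Agent.H473.SN.Janko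

open Subgroup Cfsg Cfsg.Spor Cfsg.Agent.H459.Rad Cfsg.Agent.H21.SN Cfsg.Agent.H473.SN
open Cfsg.Agent.H462.Rad3.Janko (not_solvable center_eq_bot radFree_alt radFree_model)
open Cfsg.Agent.H839.Rad (RadFree large_of_quotient)
open Cfsg.Agent.J2Type.Model Cfsg.Agent.J2Type.CStruct Cfsg.Agent.J3Type.OneClass

theorem not_comm_of_center {L : Type*} [Group L] [Nontrivial L] (h : center L = ⊥) : ¬ IsMulCommutative L := by
  intro hc
  obtain ⟨a, ha⟩ := exists_ne (1 : L)
  apply ha
  have h1 : a ∈ center L := mem_center_iff.2 fun g => hc.is_comm.comm g a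
  rwa [h, mem_bot] at h1

/-! ### `J₁` -/

theorem g3_j1 {K : Type*} [Group K] [Finite K] [hs : IsSimpleGroup K] (h : Cfsg.Spor.IsoJ1 K) : G3 K := by
  obtain ⟨e⟩ := h
  have hcard : Nat.card K = 175560 := by
    rw [Nat.card_congr e.toEquiv]
    exact Cfsg.Agent.SporadicB.J1.Main.isJ1.2
  have hZ := center_eq_bot (L := K) (by rw [hcard]; norm_num)
  refine g3_of_noS3 (not_comm_of_center hZ) (noS3_card ?_ ?_ ?_) <;> rw [hcard] <;> norm_num

/-! ### `J₂` -/

section jtwo

variable {G : Type*} [Group G] [Finite G] {z u : G}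

/-- `C(u) = 2² × A₅` -/
theorem radFree_u (F : J2Type.Base.Fus z u) : RadFree 3 ↥(centralizer ({u} : Set G)) := by
  obtain ⟨H0, S⟩ := J2Type.CentU.exists_hstr F
  obtain ⟨-, -, h60, ⟨e⟩⟩ := J2Type.Order.order_of_fus F S
  have hn : (H0.subgroupOf (centralizer ({u} : Set G))).Normal := by
    refine ⟨fun n hn g => ?_⟩
    rw [mem_subgroupOf] at hn ⊢
    exact S.conj_mem g g.2 n hn
  refine RadFree.of_index Nat.prime_three (H0.subgroupOf (centralizer ({u} : Set G))) ?_ ?_
  · have h1 := (H0.subgroupOf (centralizer ({u} : Set G))).card_mul_index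
    have h2 : Nat.card ↥(H0.subgroupOf (centralizer ({u} : Set G))) = 60 := by
      rw [Nat.card_congr (subgroupOfEquivOfLe S.le).toEquiv, h60]
    rw [h2, S.card, h60] at h1
    have h3 : (H0.subgroupOf (centralizer ({u} : Set G))).index = 4 := by omega
    rw [h3]
    norm_num
  · exact RadFree.congr Nat.prime_three ((subgroupOfEquivOfLe S.le).trans e) radFree_alt

theorem conj_of_isConj {a t : G} (h : IsConj a t) {x : G} (hxt : x * t = t * x) :
    ∃ g : G, (g * x * g⁻¹) * a = a * (g * x * g⁻¹) := by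
  obtain ⟨g, hg⟩ := isConj_iff.1 h
  refine ⟨g⁻¹, ?_⟩
  have ha : a = g⁻¹ * t * g := by rw [← hg]; group
  rw [ha, inv_inv]
  calc g⁻¹ * x * g * (g⁻¹ * t * g) = g⁻¹ * (x * t) * g := by group
    _ = g⁻¹ * (t * x) * g := by rw [hxt]
    _ = g⁻¹ * t * g * (g⁻¹ * x * g) := by group

end jtwo

theorem g3_J2 : G3 J2 := by
  have hfin : Finite J2 := CpAutTThree.JTwo.finite_J2
  have hs : IsSimpleGroup J2 := Cfsg.Agent.S1620.result.1
  have hcard : Nat.card J2 = 604800 := Cfsg.Agent.S1619.result.2.2.2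
  have hZ := center_eq_bot (L := J2) (by rw [hcard]; norm_num)
  refine g3_of_inn hZ Cfsg.Agent.CpAutTThree.JTwo.autInner_three ?_
  intro a ha _ hR
  obtain ⟨t, w, Q, v, ρ, D⟩ := KFacts.J2.Basic.exists_dat
  -- an involution commuting with `a`
  have h2 : 2 ∣ Nat.card ↥(centralizer ({a} : Set J2)) := by
    rcases CpAutTThree.JTwo.card_three ha with h | h <;> rw [h] <;> norm_num
  have hp2 : Fact (Nat.Prime 2) := ⟨Nat.prime_two⟩
  obtain ⟨s, hs2⟩ := exists_prime_orderOf_dvd_card' 2 h2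
  have hsa : a * (s : J2) = s * a := (mem_centralizer_singleton_iff.1 s.2).symm
  have hso : orderOf (s : J2) = 2 := by rw [orderOf_coe, hs2]
  have key : ∀ g : J2, orderOf (g * a * g⁻¹) = 3 := fun g => by
    rw [← MulAut.conj_apply, MulEquiv.orderOf_eq, ha]
  rcases D.F.cover s hso with h | h
  · obtain ⟨g, hg⟩ := conj_of_isConj h hsa
    exact false_of_comm (key g) (rn_conj hR g) (noS3_lt (by rw [D.F.cardC]; norm_num)) hg (radFree_model D.M)
  · obtain ⟨g, hg⟩ := conj_of_isConj h hsa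
    exact false_of_comm (key g) (rn_conj hR g)
      (noS3_lt (by rw [J2Type.Order.card_centralizer_u D.F]; norm_num)) hg (radFree_u D.F)

theorem g3_j2 {K : Type*} [Group K] [Finite K] [IsSimpleGroup K] (h : Cfsg.Spor.IsoJ2 K) : G3 K := by
  obtain ⟨e⟩ := h
  have hfin : Finite J2 := CpAutTThree.JTwo.finite_J2
  exact G3.congr e g3_J2

/-! ### `J₃` -/

theorem g3_j3 {K : Type*} [Group K] [Finite K] [IsSimpleGroup K] (h : Cfsg.Spor.IsoJ3 K) : G3 K := by
  obtain ⟨hcard, hM, hone, -⟩ := Cfsg.Agent.CpAutJThree.base h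
  have hZ := center_eq_bot (L := K) (by rw [hcard]; norm_num)
  refine g3_of_inn hZ (Cfsg.Agent.CpAutJThree.autInner h Nat.prime_three (by norm_num)) ?_
  intro x hx _ hR
  -- the elements commuting with an involution
  have key : ∀ t : K, orderOf t = 2 → x * t = t * x → False := by
    intro t ht hxt
    obtain ⟨-, hc, Q, v, ρ, M⟩ := hM t ht
    exact false_of_comm hx hR (noS3_lt (by rw [hc]; norm_num)) hxt (radFree_model M)
  obtain ⟨c, t, hc, hxc, ht, htc⟩ := H462.Rad3.Janko.exists_comm h hx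
  have memC : ∀ a : K, a ∈ centralizer ({c} : Set K) ↔ a * c = c * a := fun a => mem_centralizer_singleton_iff
  obtain ⟨c0, hc0, ⟨s, hs, hsc⟩, hc0c⟩ := Cfsg.Agent.CpAutJThree.exc h
  obtain ⟨g, hg⟩ := Cfsg.Agent.CpAutJThree.conj_three hM hone hc0 hc hs ht hsc htc
  have hC : Nat.card ↥(centralizer ({c} : Set K)) = 1080 := by
    rw [← Cfsg.Agent.CpAutJThree.card_centralizer_conj g hg]; exact hc0c
  let c' : centralizer ({c} : Set K) := ⟨c, (memC c).2 rfl⟩
  have hc3 : orderOf c' = 3 := by rw [← hc]; exact orderOf_mk _ _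
  have hcc : ∀ a : centralizer ({c} : Set K), a * c' = c' * a := fun a => Subtype.ext ((memC a).1 a.2)
  have hZn : (zpowers c').Normal := by
    constructor
    rintro n ⟨k, rfl⟩ g
    refine ⟨k, ?_⟩
    have h1 : Commute g c' := hcc g
    have := h1.zpow_right k
    show c' ^ k = g * c' ^ k * g⁻¹
    rw [this.eq]; group
  have hHD8 := Cfsg.Agent.J3Type.Extra.hd8_quotient c' hc3 hcc (Cfsg.Agent.CpAutJThree.hD_of_model hM hc)
  have hq : Nat.card (↥(centralizer ({c} : Set K)) ⧸ zpowers c') = 360 := by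
    have := card_eq_card_quotient_mul_card_subgroup (zpowers c')
    rw [hC, Nat.card_zpowers, hc3] at this
    omega
  have hp2 : Fact (Nat.Prime 2) := ⟨Nat.prime_two⟩
  obtain ⟨s', hs'⟩ := exists_prime_orderOf_dvd_card' (G := ↥(centralizer ({c} : Set K)) ⧸ zpowers c') 2
    (by rw [hq]; norm_num)
  have hsim := Cfsg.Agent.J3Type.Extra.isSimple hHD8 hs'
  have h1 : x ∈ zpowers c := by
    refine mem_zpowers_of_large hx hR (noS3_lt (by rw [hC]; norm_num)) hxc (large_of_quotient Nat.prime_three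
      (QuotientGroup.mk' (zpowers c')) (QuotientGroup.mk'_surjective _) ?_
      (RadFree.of_simple (by norm_num) (not_solvable (by rw [hq]; norm_num))))
    intro u hu
    have h2 : u ∈ zpowers c' := (QuotientGroup.eq_one_iff u).1 hu
    obtain ⟨k, hk⟩ := h2
    exact ⟨k, congrArg Subtype.val hk⟩
  obtain ⟨k, rfl⟩ := mem_zpowers_iff.1 h1
  exact key t ht ((show Commute c t from htc.symm).zpow_left k)

end Cfsg.Agent.H473.SN.Janko
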