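import Cfsg.Agent.H473.SN.Base
import Cfsg.Agent.H848.SN.Alt
import Cfsg.Agent.H559.Wf.Ly

/-!
# S3831, the row `G3` of `Ly` (helper473)

`g3_of_mt` : one class of involutions, `C(t) = 2.A_n`, every element of order three commutes with an involution: the
section `A_n` satisfies `G3`.
-/

set_option autoImplicit false
set_option linter.unusedSectionVars false

namespace Cfsg.Agent.H473.SN.Ly

open Subgroup Cfsg Cfsg.Agent.H459.Rad Cfsg.Agent.H21.SN Cfsg.Agent.H473.SN Cfsg.Agent.TypeM.Two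

theorem g3_alt {n : ℕ} (hn : 5 ≤ n) : G3 (alternatingGroup (Fin n)) :=
  Cfsg.Agent.H848.SN.g3_alt_of (fun _ _ _ h => noS3_lt (lt_of_le_of_lt (Nat.le_of_dvd (by norm_num) h) (by norm_num))) hn

theorem g3_of_mt {n : ℕ} (hn : 5 ≤ n) {K : Type*} [Group K] [Finite K] (L : MT n K) (hZ : center K = ⊥)
    (hin : ∀ x : MulAut K, orderOf x = 3 → ∃ a : K, x = MulAut.conj a)
    (hinv : ∀ y : K, orderOf y = 3 → ∃ s : K, orderOf s = 2 ∧ s * y = y * s) : G3 K := by
  refine g3_of_inn hZ hin fun y hy hP hR => ?_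
  obtain ⟨s, hs, hsy⟩ := hinv y hy
  obtain ⟨g, hg⟩ := L.one s (by rw [← pow_two, ← hs, pow_orderOf_eq_one])
    (by rintro rfl; rw [orderOf_one] at hs; norm_num at hs)
  have hx : g⁻¹ * y * g⁻¹⁻¹ ∈ centralizer ({L.t} : Set K) := by
    refine mem_centralizer_singleton_iff.2 ?_
    rw [← hg] at hsy
    calc g⁻¹ * y * g⁻¹⁻¹ * L.t = g⁻¹ * (y * (g * L.t * g⁻¹)) * g := by group
      _ = g⁻¹ * (g * L.t * g⁻¹ * y) * g := by rw [hsy]
      _ = L.t * (g⁻¹ * y * g⁻¹⁻¹) := by group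
  have ho : orderOf (g⁻¹ * y * g⁻¹⁻¹) = 3 := by rw [← MulAut.conj_apply, MulEquiv.orderOf_eq, hy]
  let f : centralizer ({L.t} : Set K) →* alternatingGroup (Fin n) :=
    L.K.π.codRestrict (alternatingGroup (Fin n)) fun c => by rw [← L.K.range_eq]; exact ⟨c, rfl⟩
  have hfv : ∀ c, ((f c : alternatingGroup (Fin n)) : Equiv.Perm (Fin n)) = L.K.π c := fun c => rfl
  have hf : Function.Surjective f := by
    rintro ⟨σ, hσ⟩
    rw [← L.K.range_eq] at hσ
    obtain ⟨c, hc⟩ := hσ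
    exact ⟨c, Subtype.ext hc⟩
  have hker : ∀ c, f c = 1 → c = 1 ∨ c = L.K.z := by
    intro c hc
    exact (L.K.ker c).1 (congrArg Subtype.val hc)
  refine false_of_section ho (H839.Rad.ps_conj hP g⁻¹) (rn_conj hR g⁻¹) hx f hf ?_ ?_
    (alternatingGroup.center_eq_bot (by rw [Nat.card_eq_fintype_card, Fintype.card_fin]; omega)) (g3_alt hn)
  · refine Group.isSolvable_of_comm ?_
    rintro ⟨a, ha⟩ ⟨b, hb⟩
    apply Subtype.ext
    change a * b = b * a
    rcases hker a ha with rfl | rfl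
    · rw [one_mul, mul_one]
    · rcases hker b hb with rfl | rfl
      · rw [one_mul, mul_one]
      · rfl
  · intro h1
    have h3 : orderOf (⟨g⁻¹ * y * g⁻¹⁻¹, hx⟩ : centralizer ({L.t} : Set K)) = 3 := by rw [Subgroup.orderOf_mk, ho]
    rcases hker _ h1 with h4 | h4
    · rw [h4, orderOf_one] at h3
      norm_num at h3
    · rw [h4] at h3
      have h5 : L.K.z ^ 2 = 1 := by rw [pow_two]; exact L.K.z_mul_z
      have h6 := orderOf_dvd_of_pow_eq_one h5
      rw [h3] at h6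
      norm_num at h6

theorem g3_ly {K : Type*} [Group K] [Finite K] [IsSimpleGroup K] (h : Spor.IsoLy K) : G3 K := by
  obtain ⟨-, -, hcard, ⟨L⟩⟩ := Cfsg.Agent.TypeM.FactsLy.facts h
  obtain ⟨x₀, h₀⟩ := Cfsg.Agent.H582.Ly.exists_tdata h
  have hZ : center K = ⊥ := by
    rcases (inferInstance : (center K).Normal).eq_bot_or_eq_top with h1 | h1
    · exact h1
    · exfalso
      let _ : CommGroup K := { (inferInstance : Group K) with
        mul_comm := fun a b => (mem_center_iff.1 (h1 ▸ mem_top a : a ∈ center K) b).symm }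
      have h2 : (Nat.card K).Prime := IsSimpleGroup.prime_card (α := K)
      rw [hcard] at h2
      revert h2
      norm_num
  refine g3_of_mt (by norm_num) L hZ (fun a _ => ?_)
    (fun y hy => Cfsg.Agent.H582.Ly.fact_a hcard h₀ hy)
  obtain ⟨b, hb⟩ := Cfsg.Agent.TypeM.OutLyFin.inner h a
  exact ⟨b, hb.symm⟩

end Cfsg.Agent.H473.SN.Ly
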